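import Mathlib.AlgebraicGeometry.Modules.Tilde
import Mathlib.RingTheory.Noetherian.Basic
import Mathlib.AlgebraicGeometry.Noetherian
import Groth.Prelude.Def_Wider

/-!
# Sections of the sheaf of a module over opens containing the complement of `V(a)`
-/

set_option autoImplicit false
universe u

open CategoryTheory Limits Opposite TopologicalSpace AlgebraicGeometry

namespace GrothLib.Punctured

variable {R : CommRingCat.{u}} [IsNoetherianRing R] (E : ModuleCat.{u} R)

noncomputable abbrev secP := (modulesSpecToSheaf.obj (tilde E)).presheaf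

/-- A section vanishing on `D(g)` is killed by a power of `g`. -/
theorem exists_pow_smul_eq_zero_of_res {W : (Spec R).Opens} (g : R)
    (hg : (PrimeSpectrum.basicOpen g : (Spec R).Opens) ≤ W) (s : (secP E).obj (op W))
    (hs : (secP E).map (homOfLE hg).op s = 0) : ∃ N : ℕ, g ^ N • s = 0 := by
  classical
  let P := secP E
  let B : R → (Spec R).Opens := fun r => PrimeSpectrum.basicOpen r
  obtain ⟨fs, hW, hfin⟩ : ∃ fs : Set R, W = ⨆ f : fs, B (f : R) ∧ fs.Finite := by
    obtain ⟨t, ht, hW⟩ := (isCompact_open_iff_eq_finite_iUnion_of_isTopologicalBasis _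
      PrimeSpectrum.isTopologicalBasis_basic_opens PrimeSpectrum.isCompact_basicOpen _).mp
      ⟨NoetherianSpace.isCompact (W : Set (Spec R)), W.2⟩
    exact ⟨t, Opens.ext (by rw [hW, Opens.coe_iSup]; exact Set.biUnion_eq_iUnion t _), ht⟩
  have : Fintype fs := hfin.fintype
  have hle : ∀ f : fs, B (f : R) ≤ W := fun f => hW ▸ le_iSup_of_le f le_rfl
  have hloc : ∀ f : fs, ∃ k : ℕ, g ^ k • P.map (homOfLE (hle f)).op s = 0 := fun f => by
    obtain ⟨⟨m, ⟨_, n, rfl⟩⟩, hm⟩ := IsLocalizedModule.surj (.powers (f : R))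
      (tilde.toOpen E (B (f : R))).hom (P.map (homOfLE (hle f)).op s)
    have hm' : tilde.toOpen E (B (f : R)) m = (f : R) ^ n • P.map (homOfLE (hle f)).op s := hm.symm
    have h1 : B ((f : R) * g) ≤ B (f : R) := PrimeSpectrum.basicOpen_mul_le_left _ _
    have h2 : B ((f : R) * g) ≤ B g := PrimeSpectrum.basicOpen_mul_le_right _ _
    have h0 : tilde.toOpen E (B ((f : R) * g)) m = 0 := by
      refine (ConcreteCategory.congr_hom (tilde.toOpen_res E (B (f : R)) _ (homOfLE h1)) m).symm.trans ?_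
      refine (congrArg (P.map (homOfLE h1).op) hm').trans ((map_smul _ _ _).trans ?_)
      have e1 := ConcreteCategory.congr_hom (P.map_comp (homOfLE (hle f)).op (homOfLE h1).op) s
      have e2 := ConcreteCategory.congr_hom (P.map_comp (homOfLE hg).op (homOfLE h2).op) s
      refine (congrArg (((f : R)) ^ n • ·) (e1.symm.trans (e2.trans
        ((congrArg (P.map (homOfLE h2).op).hom hs).trans (map_zero (P.map (homOfLE h2).op).hom))))).trans ?_
      exact smul_zero _
    obtain ⟨⟨_, j, rfl⟩, hj⟩ := (IsLocalizedModule.eq_zero_iff (.powers ((f : R) * g))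
      (tilde.toOpen E (B ((f : R) * g))).hom).mp h0
    refine ⟨j, ?_⟩
    have hj' : ((f : R) * g) ^ j • m = 0 := hj
    have h3 : (f : R) ^ (j + n) • (g ^ j • P.map (homOfLE (hle f)).op s) = 0 := by
      rw [smul_smul, show (f : R) ^ (j + n) * g ^ j = ((f : R) * g) ^ j * (f : R) ^ n by ring, mul_smul, ← hm']
      exact ((tilde.toOpen E (B (f : R))).hom.map_smul _ _).symm.trans
        ((congrArg (tilde.toOpen E (B (f : R))).hom hj').trans (map_zero _))
    apply (tilde E).isSMulRegular_of_le_basicOpen (le_refl (B (f : R))) |>.pow (j + n)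
    change (f : R) ^ (j + n) • (g ^ j • P.map (homOfLE (hle f)).op s) = (f : R) ^ (j + n) • (0 : P.obj (op (B (f : R))))
    rw [h3, smul_zero]
  choose k hk using hloc
  refine ⟨Finset.univ.sup k, ?_⟩
  refine TopCat.Sheaf.eq_of_locally_eq' (modulesSpecToSheaf.obj (tilde E))
    (fun f : fs => B (f : R)) W (fun f => homOfLE (hle f)) hW.le _ _ fun f => ?_
  refine (map_smul (P.map (homOfLE (hle f)).op).hom _ _).trans (Eq.trans ?_ (map_zero (P.map (homOfLE (hle f)).op).hom).symm)
  obtain ⟨d, hd⟩ := Nat.exists_eq_add_of_le (Finset.le_sup (f := k) (Finset.mem_univ f))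
  rw [hd, add_comm, pow_add, mul_smul]
  exact (congrArg (g ^ d • ·) (hk f)).trans (smul_zero _)

variable (a : Ideal R) {W U : (Spec R).Opens} (hUW : U ≤ W)

omit [IsNoetherianRing R] in
/-- Scalars invertible on an open act injectively on its sections. -/
theorem eq_zero_of_forall_smul (hU : (U : Set (Spec R)) ⊆ (PrimeSpectrum.zeroLocus (a : Set R))ᶜ)
    (x : (secP E).obj (op U)) (n : ℕ) (hx : ∀ r ∈ a ^ n, r • x = 0) : x = 0 := by
  let P := secP E
  refine TopCat.Sheaf.eq_of_locally_eq' (modulesSpecToSheaf.obj (tilde E))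
    (fun g : a => (PrimeSpectrum.basicOpen (g : R) : (Spec R).Opens) ⊓ U) U (fun g => homOfLE inf_le_right) ?_ _ _
    fun g => ?_
  · intro p hp
    have : ¬ ((a : Set R) ⊆ (p : PrimeSpectrum R).asIdeal) := hU hp
    obtain ⟨g, hg, hgp⟩ := Set.not_subset.1 this
    exact Opens.mem_iSup.2 ⟨⟨g, hg⟩, hgp, hp⟩
  · have hreg : IsSMulRegular (P.obj (op ((PrimeSpectrum.basicOpen (g : R) : (Spec R).Opens) ⊓ U))) (g : R) :=
      (tilde E).isSMulRegular_of_le_basicOpen inf_le_left
    apply hreg.pow n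
    change (g : R) ^ n • P.map _ x = (g : R) ^ n • P.map _ (0 : P.obj (op U))
    have e := map_smul (P.map (homOfLE (inf_le_right : (PrimeSpectrum.basicOpen (g : R) : (Spec R).Opens) ⊓ U ≤ U)).op).hom
    exact ((e ((g : R) ^ n) x).symm.trans (congrArg _ (hx _ (Ideal.pow_mem_pow g.2 n)))).trans
      ((congrArg _ (smul_zero ((g : R) ^ n))).symm.trans (e _ 0))

theorem isPowerTorsion_of_generators {M : Type u} [AddCommGroup M] [Module R M]
    (h : ∀ g ∈ a, ∀ x : M, ∃ N : ℕ, g ^ N • x = 0) (x : M) : ∃ n : ℕ, ∀ r ∈ a ^ n, r • x = 0 := by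
  have hle : a ≤ (Ideal.torsionOf R M x).radical := fun g hg => h g hg x
  obtain ⟨n, hn⟩ := Ideal.exists_pow_le_of_le_radical_of_fg hle (IsNoetherian.noetherian a)
  exact ⟨n, fun r hr => hn hr⟩

omit [IsNoetherianRing R] in
theorem mem_iSup_torsionBy {M : Type u} [AddCommGroup M] [Module R M] (x : M) :
    x ∈ (⨆ n : ℕ, LocCoh.torsionBy (a ^ n) M) ↔ ∃ n : ℕ, ∀ r ∈ a ^ n, r • x = 0 := by
  rw [Submodule.mem_iSup_of_directed _ (Monotone.directed_le fun m n hmn =>
    Submodule.torsionBySet_le_torsionBySet_of_subset (Ideal.pow_le_pow_right hmn))]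
  refine exists_congr fun n => ?_
  rw [Submodule.mem_torsionBySet_iff]
  exact ⟨fun h r hr => h ⟨r, hr⟩, fun h r => h r.1 r.2⟩

variable (hU : U = ⟨(PrimeSpectrum.zeroLocus (a : Set R))ᶜ, (PrimeSpectrum.isClosed_zeroLocus _).isOpen_compl⟩)

include hU in
omit [IsNoetherianRing R] in
theorem basicOpen_le (g : R) (hg : g ∈ a) : (PrimeSpectrum.basicOpen g : (Spec R).Opens) ≤ U := by
  subst hU
  intro p hp hz
  exact hp (hz hg)

include hU in
theorem ker_res :
    LinearMap.ker ((secP E).map (homOfLE hUW).op).hom = ⨆ n : ℕ, LocCoh.torsionBy (a ^ n) ((secP E).obj (op W)) := by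
  ext s
  rw [LinearMap.mem_ker, mem_iSup_torsionBy]
  refine ⟨fun hs => ?_, fun ⟨n, hn⟩ => ?_⟩
  · have hle : a ≤ (Ideal.torsionOf R _ s).radical := fun g hg => by
      refine exists_pow_smul_eq_zero_of_res E g ((basicOpen_le a hU g hg).trans hUW) s ?_
      exact ((ConcreteCategory.congr_hom ((secP E).map_comp (homOfLE hUW).op
        (homOfLE (basicOpen_le a hU g hg)).op) s).trans
        (congrArg ((secP E).map (homOfLE (basicOpen_le a hU g hg)).op).hom hs)).trans (map_zero _)
    obtain ⟨n, hn⟩ := Ideal.exists_pow_le_of_le_radical_of_fg hle (IsNoetherian.noetherian a)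
    exact ⟨n, fun r hr => hn hr⟩
  · refine eq_zero_of_forall_smul E a (fun p hp => by subst hU; exact hp) _ n fun r hr => ?_
    rw [← map_smul, hn r hr, map_zero]

include hU in
theorem isPowerTorsion_coker_res :
    LocCoh.IsPowerTorsion a ((secP E).obj (op U) ⧸ LinearMap.range ((secP E).map (homOfLE hUW).op).hom) := by
  refine isPowerTorsion_of_generators a fun g hg x => ?_
  obtain ⟨t, rfl⟩ := Submodule.mkQ_surjective _ x
  let P := secP E
  have hgU := basicOpen_le a hU g hg
  obtain ⟨⟨m, ⟨_, n, rfl⟩⟩, hm⟩ := IsLocalizedModule.surj (.powers g)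
    (tilde.toOpen E (PrimeSpectrum.basicOpen g)).hom (P.map (homOfLE hgU).op t)
  have h0 : P.map (homOfLE hgU).op (g ^ n • t - P.map (homOfLE hUW).op (tilde.toOpen E W m)) = 0 := by
    refine (map_sub (P.map (homOfLE hgU).op).hom _ _).trans (sub_eq_zero.2 ?_)
    refine (map_smul (P.map (homOfLE hgU).op).hom _ _).trans (hm.trans ?_)
    refine (ConcreteCategory.congr_hom (tilde.toOpen_res E W _ (homOfLE (hgU.trans hUW))) m).symm.trans ?_
    exact ConcreteCategory.congr_hom (P.map_comp (homOfLE hUW).op (homOfLE hgU).op) (tilde.toOpen E W m)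
  obtain ⟨N, hN⟩ := exists_pow_smul_eq_zero_of_res E g hgU _ h0
  refine ⟨N + n, ?_⟩
  rw [← map_smul, Submodule.mkQ_apply, Submodule.Quotient.mk_eq_zero]
  refine ⟨g ^ N • tilde.toOpen E W m, ?_⟩
  rw [map_smul]
  rw [smul_sub, sub_eq_zero, smul_smul, ← pow_add] at hN
  exact hN.symm

end GrothLib.Punctured
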