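import Groth.Agent.Lib.Punctured.Kill
import Groth.Prelude.Def_Wider
import Mathlib.AlgebraicGeometry.Morphisms.QuasiSeparated
import Mathlib.RingTheory.Finiteness.Ideal

/-! Annihilators of the cohomology of finite locally free modules on punctured spectra (helper3). -/

set_option autoImplicit false
set_option linter.style.haveILetI false

universe u

open CategoryTheory CategoryTheory.Limits Opposite AlgebraicGeometry TopologicalSpace

namespace GrothLib.Punctured

theorem isFrame_map {X : Scheme.{u}} {F : X.Modules} {U W : X.Opens} {n : ℕ} {e : Fin n → Γ(F, U)}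
    (he : FinCov.IsFrame F U e) (h : W ≤ U) :
    FinCov.IsFrame F W (fun i => F.presheaf.map (homOfLE h).op (e i)) := fun V hV => by
  have h1 := he V (hV.trans h)
  simpa only [Cohom.map_map_apply] using h1

theorem H_map_sum {X : Scheme.{u}} {F G : Sheaf (Opens.grothendieckTopology X) AddCommGrpCat.{u}} (p : ℕ)
    {ι : Type*} (s : Finset ι) (f : ι → (F ⟶ G)) (x : Sheaf.H F p) :
    Sheaf.H.map (∑ i ∈ s, f i) p x = ∑ i ∈ s, Sheaf.H.map (f i) p x := by
  classical
  induction s using Finset.induction_on with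
  | empty =>
    rw [Finset.sum_empty, Finset.sum_empty]
    change ((Sheaf.functorH _ p).map (0 : F ⟶ G)).hom x = 0
    rw [Functor.map_zero]
    rfl
  | insert a t ha ih => rw [Finset.sum_insert ha, Finset.sum_insert ha, Sheaf.H.map_add_apply, ih]

variable {A : Type u} [CommRing A] (I : Ideal A)

theorem isCompact_puncturedOpen (hI : I.FG) :
    IsCompact ((LocCoh.puncturedOpen A I : (Spec (CommRingCat.of A)).Opens) : Set (Spec (CommRingCat.of A))) :=
  PrimeSpectrum.isCompact_isOpen_iff_ideal.2 ⟨I, hI, rfl⟩ |>.1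

theorem kill (J : Ideal A) (hJI : J ≤ I) (hJ : J.FG) (hI : I.FG) (p n : ℕ)
    (hO : ∀ a ∈ J ^ n, ∀ x : Coh.HH (↑(LocCoh.puncturedOpen A I))
      (Coh.structureModule (↑(LocCoh.puncturedOpen A I))) p, a • x = 0)
    (F : (↑(LocCoh.puncturedOpen A I) : Scheme.{u}).Modules) (hF : FlatMod.IsFinLocFree F) :
    ∃ m : ℕ, ∀ a ∈ J ^ m, ∀ x : Coh.HH (↑(LocCoh.puncturedOpen A I)) F p, a • x = 0 := by
  let X : Scheme.{u} := ↑(LocCoh.puncturedOpen A I)
  haveI : CompactSpace X := isCompact_iff_compactSpace.1 (isCompact_puncturedOpen I hI)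
  haveI : QuasiSeparatedSpace X := quasiSeparatedSpace_of_quasiSeparated (LocCoh.puncturedOpen A I).ι
  let K : Ideal A :=
    { carrier := {c | ∀ b ∈ J ^ n, ∀ x : Coh.HH X F p, (b * c) • x = 0}
      zero_mem' := fun b _ x => by rw [mul_zero, zero_smul]
      add_mem' := fun {c d} hc hd b hb x => by rw [mul_add, add_smul, hc b hb x, hd b hb x, add_zero]
      smul_mem' := fun r c hc b hb x => by
        rw [smul_eq_mul, ← mul_assoc, mul_comm b r, mul_assoc, mul_smul, hc b hb x, smul_zero] }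
  have hrad : I ≤ K.radical := by
    rw [Ideal.radical_eq_sInf]
    refine le_sInf fun q ⟨hKq, hq⟩ => ?_
    by_contra hIq
    let y : Spec (CommRingCat.of A) := (⟨q, hq⟩ : PrimeSpectrum A)
    have hy : y ∈ LocCoh.puncturedOpen A I := fun h => hIq h
    let x : X := ⟨y, hy⟩
    obtain ⟨U, k, e, hxU, he⟩ := FinCov.exists_frame_nhd hF x
    obtain ⟨_, ⟨a, rfl⟩, ha, hle⟩ := Opens.isBasis_iff_nbhd.1 (PrimeSpectrum.isBasis_basic_opens (R := A))
      (show y ∈ ((LocCoh.puncturedOpen A I).ι ''ᵁ U : (Spec (CommRingCat.of A)).Opens) from ⟨x, hxU, rfl⟩)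
    let h : Γ(X, ⊤) := Coh.toGlobal (X ↘ (Spec (CommRingCat.of A))) a
    have hb : X.basicOpen h = (LocCoh.puncturedOpen A I).ι ⁻¹ᵁ (PrimeSpectrum.basicOpen a) := by
      rw [← basicOpen_eq_of_affine (R := CommRingCat.of A) a, Scheme.preimage_basicOpen]
      rfl
    have hhU : X.basicOpen h ≤ U := by
      rw [hb]
      intro z hz
      obtain ⟨z', hz', hzz⟩ := hle hz
      rwa [← Subtype.ext hzz]
    obtain ⟨N, v, w, hvw⟩ := exists_factor hF h _ (isFrame_map he hhU)
    have haK : a ^ N ∈ K := fun b hb x => by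
      have h1 : (a ^ N : A) • x =
          Sheaf.H.map (Coh.smulAb F (Coh.toGlobal (X ↘ (Spec (CommRingCat.of A))) (a ^ N))) p x := rfl
      have hpow : (Coh.toGlobal (X ↘ (Spec (CommRingCat.of A))) (a ^ N) : Γ(X, ⊤)) = h ^ N :=
        map_pow (Coh.toGlobal (X ↘ (Spec (CommRingCat.of A)))) a N
      have hvw' : Coh.smulAb F (Coh.toGlobal (X ↘ (Spec (CommRingCat.of A))) (a ^ N)) =
          ∑ i, (SheafOfModules.toSheaf X.ringCatSheaf).map (w i ≫ v i) :=
        (congrArg (fun r : Γ(X, ⊤) => Coh.smulAb F r) hpow).trans hvw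
      rw [mul_smul, h1, hvw', H_map_sum, Finset.smul_sum]
      refine Finset.sum_eq_zero fun i _ => ?_
      have h2 : Sheaf.H.map ((SheafOfModules.toSheaf X.ringCatSheaf).map (w i ≫ v i)) p x =
          Cohom.hhMap A (v i) p (Cohom.hhMap A (w i) p x) := by
        have h3 : (SheafOfModules.toSheaf X.ringCatSheaf).map (w i ≫ v i) =
            (QCoh.toAbFun X).map (w i) ≫ (QCoh.toAbFun X).map (v i) := (QCoh.toAbFun X).map_comp _ _
        rw [h3, Sheaf.H.map_comp_apply]
        rfl
      rw [h2, ← map_smul, hO b hb, map_zero]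
    exact ha (hq.mem_of_pow_mem N (hKq haK))
  obtain ⟨M, hM⟩ := Ideal.exists_pow_le_of_le_radical_of_fg ((hJI.trans hrad)) hJ
  refine ⟨n + M, fun a ha x => ?_⟩
  rw [pow_add] at ha
  refine Submodule.mul_induction_on ha (fun b hb c hc => hM hc b hb x) fun a b ha hb => ?_
  rw [add_smul, ha, hb, add_zero]

end GrothLib.Punctured
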