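import Groth.Agent.Lib.Punctured.LocalCohom
import Groth.Agent.Lib.Punctured.Main
import Groth.Agent.Lib.QCoh.TildeFinite
import Groth.Agent.Lib.LC.TopNonzero
import Groth.Agent.S2252
import Groth.Prelude.Def_Coh

/-!
# Quasi-coherent modules on a punctured spectrum and their cohomology
-/

set_option autoImplicit false
universe u

open CategoryTheory CategoryTheory.Limits Opposite AlgebraicGeometry TopologicalSpace

namespace GrothLib.Punctured

/-- Cohomology of isomorphic modules, linearly over the base ring. -/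
noncomputable def hhEquiv {A : Type u} [CommRing A] {X : Scheme.{u}}
    [X.Over (Spec (CommRingCat.of A))] {M N : X.Modules} (e : M ≅ N) (n : ℕ) :
    Coh.HH X M n ≃ₗ[A] Coh.HH X N n :=
  LinearEquiv.ofLinearMap (Cohom.hhMap A e.hom n) (Cohom.hhMap A e.inv n)
    (LinearMap.ext fun x => by
      show Cohom.hhMap A e.hom n (Cohom.hhMap A e.inv n x) = x
      rw [Cohom.hhMap_apply, Cohom.hhMap_apply, ← Sheaf.H.map_comp_apply, ← Functor.map_comp,
        e.inv_hom_id, CategoryTheory.Functor.map_id, Sheaf.H.map_id_apply])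
    (LinearMap.ext fun x => by
      show Cohom.hhMap A e.inv n (Cohom.hhMap A e.hom n x) = x
      rw [Cohom.hhMap_apply, Cohom.hhMap_apply, ← Sheaf.H.map_comp_apply, ← Functor.map_comp,
        e.hom_inv_id, CategoryTheory.Functor.map_id, Sheaf.H.map_id_apply])

theorem exists_restrict_tilde_iso {R : CommRingCat.{u}} (U : (Spec R).Opens) [QuasiCompact U.ι]
    (F : (U : Scheme.{u}).Modules) [F.IsQuasicoherent] :
    ∃ M : ModuleCat.{u} R, Nonempty ((Scheme.Modules.restrictFunctor U.ι).obj (tilde M) ≅ F) := by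
  have := QCoh.isQuasicoherent_pushforward U.ι F
  have : IsIso ((Scheme.Modules.pushforward U.ι).obj F).fromTildeΓ :=
    Scheme.Modules.isIso_fromTildeΓ_of_isQuasicoherent _
  refine ⟨_, ⟨(Scheme.Modules.restrictFunctor U.ι).mapIso
    (asIso ((Scheme.Modules.pushforward U.ι).obj F).fromTildeΓ) ≪≫
    (Scheme.Modules.restrictFunctorAdjCounitIso U.ι).app F⟩⟩

theorem exists_finite_restrict_tilde_iso {R : CommRingCat.{u}} [IsNoetherianRing R] (U : (Spec R).Opens)
    (F : (U : Scheme.{u}).Modules) (hF : Coh.IsCoh F) :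
    ∃ M : ModuleCat.{u} R, Module.Finite R M ∧
      Nonempty ((Scheme.Modules.restrictFunctor U.ι).obj (tilde M) ≅ F) := by
  have : Coh.IsQCoh F := hF.1
  obtain ⟨G, hG, hG', ⟨e⟩⟩ := Groth.Agent.S2252.result
    (X := Spec R) (fun x => ⟨⊤, trivial, inferInstance⟩) U F hF.2
  have : IsIso G.fromTildeΓ := @Scheme.Modules.isIso_fromTildeΓ_of_isQuasicoherent _ G hG
  exact ⟨_, @QCoh.moduleFinite_top_spec _ G hG hG',
    ⟨(Scheme.Modules.restrictFunctor U.ι).mapIso (asIso G.fromTildeΓ) ≪≫ e⟩⟩

variable {A : Type u} [CommRing A] [IsNoetherianRing A] (I : Ideal A)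

theorem quasiCompact_ι : QuasiCompact (LocCoh.puncturedOpen A I).ι := by
  have : CompactSpace (↑(LocCoh.puncturedOpen A I) : Scheme.{u}) :=
    isCompact_iff_compactSpace.1 (isCompact_puncturedOpen I (IsNoetherian.noetherian I))
  infer_instance

/-- Every quasi-coherent module on the punctured spectrum comes from a module. -/
theorem exists_puncFun_iso (F : (↑(LocCoh.puncturedOpen A I) : Scheme.{u}).Modules) [F.IsQuasicoherent] :
    ∃ M : ModuleCat.{u} (CommRingCat.of A), Nonempty ((puncFun I).obj M ≅ F) :=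
  have := quasiCompact_ι I
  exists_restrict_tilde_iso (LocCoh.puncturedOpen A I) F

/-- Every coherent module on the punctured spectrum comes from a finite module. -/
theorem exists_finite_puncFun_iso (F : (↑(LocCoh.puncturedOpen A I) : Scheme.{u}).Modules)
    (hF : Coh.IsCoh F) :
    ∃ M : ModuleCat.{u} (CommRingCat.of A), Module.Finite (CommRingCat.of A) M ∧
      Nonempty ((puncFun I).obj M ≅ F) :=
  have : IsNoetherianRing (CommRingCat.of A) := inferInstanceAs (IsNoetherianRing A)
  exists_finite_restrict_tilde_iso (LocCoh.puncturedOpen A I) F hF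

/-- The cohomology in positive degree of a quasi-coherent module is local cohomology one degree up. -/
theorem nonempty_HH_equiv_of_iso (F : (↑(LocCoh.puncturedOpen A I) : Scheme.{u}).Modules)
    (M : ModuleCat.{u} (CommRingCat.of A)) (e : (puncFun I).obj M ≅ F) (p : ℕ) :
    Nonempty (Coh.HH (↑(LocCoh.puncturedOpen A I) : Scheme.{u}) F (p + 1) ≃ₗ[A]
      (localCohomology (R := CommRingCat.of A) I (p + 2)).obj M) :=
  (nonempty_HH_equiv I p M).map fun f => (hhEquiv e (p + 1)).symm.trans f

/-- Positive degree cohomology of a coherent module on the punctured spectrum is Artinian. -/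
theorem isArtinian_HH [IsLocalRing A]
    (F : (↑(LocCoh.puncturedOpen A (IsLocalRing.maximalIdeal A)) : Scheme.{u}).Modules)
    (hF : Coh.IsCoh F) (i : ℕ) (hi : 0 < i) :
    IsArtinian A (Coh.HH (↑(LocCoh.puncturedOpen A (IsLocalRing.maximalIdeal A)) : Scheme.{u}) F i) := by
  obtain ⟨p, rfl⟩ : ∃ p, i = p + 1 := ⟨i - 1, by omega⟩
  obtain ⟨M, hM, ⟨e⟩⟩ := exists_finite_puncFun_iso _ F hF
  obtain ⟨f⟩ := nonempty_HH_equiv_of_iso _ F M e p
  haveI : Module.Finite A M := hM
  haveI : IsArtinian A (LocCoh.H (IsLocalRing.maximalIdeal A) (p + 2) M) :=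
    LC.isArtinian_H_maximal (R := A) (p + 2) M
  exact isArtinian_of_linearEquiv (M := LocCoh.H (IsLocalRing.maximalIdeal A) (p + 2) M) f.symm

end GrothLib.Punctured
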