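import Groth.Agent.Lib.Punctured.CohTilde
import Groth.Agent.Lib.Punctured.TildeSections
import Groth.Agent.Lib.LC.Shift
import Groth.Agent.Lib.LC.Torsion

/-!
# Cohomology of the punctured spectrum and local cohomology
-/

set_option autoImplicit false
universe u

open CategoryTheory CategoryTheory.Limits Opposite AlgebraicGeometry TopologicalSpace Abelian

namespace GrothLib.Punctured

theorem nonempty_linearEquiv_of_ker_eq {R : Type*} [CommRing R] {P C H : Type*} [AddCommGroup P]
    [AddCommGroup C] [AddCommGroup H] [Module R P] [Module R C] [Module R H] (φ : P →ₗ[R] C)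
    (ψ : P →ₗ[R] H) (hφ : Function.Surjective φ) (hψ : Function.Surjective ψ)
    (h : ∀ x, φ x = 0 ↔ ψ x = 0) : Nonempty (C ≃ₗ[R] H) :=
  ⟨(φ.quotKerEquivOfSurjective hφ).symm.trans
    ((Submodule.quotEquivOfEq _ _ (Submodule.ext fun x => by simp only [LinearMap.mem_ker, h x])).trans
      (ψ.quotKerEquivOfSurjective hψ))⟩

theorem hhMap_zero_injective {A : Type u} [CommRing A] {X : Scheme.{u}}
    [X.Over (Spec (CommRingCat.of A))] {S : ShortComplex X.Modules} (hS : S.ShortExact) :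
    Function.Injective (Cohom.hhMap A S.f 0) := by
  refine (injective_iff_map_eq_zero _).2 fun x hx ↦ ?_
  have := (QCoh.toAbFun_map_shortExact S hS).mono_f
  obtain ⟨ψ, hψ⟩ := (Ext.mk₀_bijective _ _).surjective
    (show Ext.{u} _ (S.map (QCoh.toAbFun X)).X₁ 0 from x)
  have h0 : Ext.mk₀ (ψ ≫ (S.map (QCoh.toAbFun X)).f) = 0 := by
    rw [← Ext.mk₀_comp_mk₀, hψ]; exact hx
  rw [Ext.mk₀_eq_zero_iff] at h0
  exact hψ.symm.trans ((congrArg Ext.mk₀ ((cancel_mono (S.map (QCoh.toAbFun X)).f).1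
    (h0.trans zero_comp.symm))).trans (Ext.mk₀_zero _ _))

variable {A : Type u} [CommRing A] [IsNoetherianRing A] (I : Ideal A)

set_option quotPrecheck false
local notation "UU" => LocCoh.puncturedOpen A I
local notation "MC" => ModuleCat (CommRingCat.of A)
local notation "tors" => DRing.torsionSub (A := (CommRingCat.of A)) I

theorem toOpen_eq_zero_iff (M : MC) (x : M) : tilde.toOpen M UU x = 0 ↔ x ∈ tors M := by
  have : IsNoetherianRing (CommRingCat.of A) := inferInstanceAs (IsNoetherianRing A)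
  have hb : IsIso (tilde.toOpen M ⊤) := inferInstanceAs (IsIso (tilde.isoTop M).hom)
  have hb' := ConcreteCategory.bijective_of_isIso (tilde.toOpen M ⊤)
  have hk := ker_res (R := CommRingCat.of A) M I (W := ⊤) (U := UU) le_top rfl
  have hfac := tilde.toOpen_res M ⊤ UU (homOfLE le_top)
  rw [← hfac]
  show (tilde.toOpen M ⊤).hom x ∈ LinearMap.ker ((secP M).map (homOfLE (le_top : UU ≤ ⊤)).op).hom ↔ _
  rw [hk, mem_iSup_torsionBy]
  refine exists_congr fun n => forall₂_congr fun r _ => ?_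
  rw [← map_smul]
  exact ⟨fun h => hb'.1 (h.trans (map_zero _).symm), fun h => by rw [h, map_zero]⟩

variable {S : ShortComplex (ModuleCat.{u} (CommRingCat.of A))} (hS : S.ShortExact)

include hS in
theorem secMap_f_injective : Function.Injective (secMap I S.f) := by
  intro a b h
  obtain ⟨a, rfl⟩ := (H0Sec I S.X₁).surjective a
  obtain ⟨b, rfl⟩ := (H0Sec I S.X₁).surjective b
  rw [← H0Sec_map, ← H0Sec_map] at h
  exact congrArg _ (hhMap_zero_injective (A := A) (puncFun_shortExact I S hS) ((H0Sec I S.X₂).injective h))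

include hS in
theorem exists_secMap_f_eq {y : sec I S.X₂} (hy : secMap I S.g y = 0) :
    ∃ x, secMap I S.f x = y := by
  obtain ⟨y, rfl⟩ := (H0Sec I S.X₂).surjective y
  rw [← H0Sec_map, LinearEquiv.map_eq_zero_iff] at hy
  obtain ⟨x, hx⟩ := (Cohom.exact₂ (A := A) (puncFun_shortExact I S hS) 0 y).1 hy
  exact ⟨H0Sec I S.X₁ x, (H0Sec_map I S.f x).symm.trans (congrArg (H0Sec I S.X₂) hx)⟩

include hS in
theorem secMap_comp_eq_zero (x : sec I S.X₁) : secMap I S.g (secMap I S.f x) = 0 := by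
  obtain ⟨x, rfl⟩ := (H0Sec I S.X₁).surjective x
  refine (congrArg (secMap I S.g) (H0Sec_map I S.f x).symm).trans ((H0Sec_map I S.g _).symm.trans ?_)
  exact (congrArg (H0Sec I S.X₃)
    ((Cohom.exact₂ (A := A) (puncFun_shortExact I S hS) 0).apply_apply_eq_zero x)).trans (map_zero _)

/-- The cokernel of `Q → Γ(U, Q~)`. -/
noncomputable abbrev cokerSec (Q : MC) : Type u :=
  sec I Q ⧸ LinearMap.range (tilde.toOpen Q UU).hom

include hS in
/-- The cokernel of `Q → Γ(U, Q~)` is the first local cohomology of `Q`. -/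
theorem nonempty_coker_equiv (hE : Injective S.X₂) :
    Nonempty (cokerSec I S.X₁ ≃ₗ[CommRingCat.of A]
      (localCohomology (R := CommRingCat.of A) I 1).obj S.X₁) := by
  have : IsNoetherianRing (CommRingCat.of A) := inferInstanceAs (IsNoetherianRing A)
  haveI : Module.Injective (CommRingCat.of A) S.X₂ := Module.injective_module_of_injective_object _ _
  let P : Submodule (CommRingCat.of A) S.X₂ := (tors S.X₃).comap S.g.hom
  let sf : sec I S.X₁ →ₗ[CommRingCat.of A] sec I S.X₂ := (secMap I S.f).hom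
  have hsf : Function.Injective sf := secMap_f_injective I hS
  have hP : ∀ e : P, (tilde.toOpen S.X₂ UU).hom e.1 ∈ LinearMap.range sf := fun e => by
    obtain ⟨s, hs⟩ := exists_secMap_f_eq I hS (y := tilde.toOpen S.X₂ UU e.1)
      (by rw [secMap_toOpen]; exact (toOpen_eq_zero_iff I S.X₃ _).2 e.2)
    exact ⟨s, hs⟩
  let φ : P →ₗ[CommRingCat.of A] sec I S.X₁ :=
    (LinearEquiv.ofInjective sf hsf).symm.toLinearMap.comp
      (LinearMap.codRestrict (LinearMap.range sf) ((tilde.toOpen S.X₂ UU).hom.comp P.subtype) hP)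
  have hφ : ∀ e : P, sf (φ e) = tilde.toOpen S.X₂ UU e.1 := fun e =>
    congrArg Subtype.val ((LinearEquiv.ofInjective sf hsf).apply_symm_apply ⟨_, hP e⟩)
  let γ : P →ₗ[CommRingCat.of A] tors S.X₃ :=
    LinearMap.codRestrict _ (S.g.hom.comp P.subtype) fun e => e.2
  have hγ : Function.Surjective γ := fun c => by
    obtain ⟨e, he⟩ := (ModuleCat.epi_iff_surjective S.g).1 hS.epi_g c.1
    exact ⟨⟨e, show S.g.hom e ∈ tors S.X₃ from he ▸ c.2⟩, Subtype.ext he⟩
  have hinj : ∀ i, Subsingleton ((localCohomology (R := CommRingCat.of A) I (i + 1)).obj S.X₂) :=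
    fun i => LC.subsingleton_of_injective (R := CommRingCat.of A) I S.X₂ i
  refine nonempty_linearEquiv_of_ker_eq ((LinearMap.range (tilde.toOpen S.X₁ UU).hom).mkQ.comp φ)
    ((LC.torsionδ (R := CommRingCat.of A) I hS).comp γ) ?_
    ((LC.torsionδ_surjective (R := CommRingCat.of A) I hS hinj).comp hγ) fun e => ?_
  · intro z
    obtain ⟨s, rfl⟩ := Submodule.mkQ_surjective _ z
    obtain ⟨e, he⟩ := toOpen_surjective_of_injective I S.X₂ (secMap I S.f s)
    have he' : e ∈ P := (toOpen_eq_zero_iff I S.X₃ _).1 (by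
      rw [← secMap_toOpen, he]; exact secMap_comp_eq_zero I hS s)
    exact ⟨⟨e, he'⟩, congrArg (Submodule.mkQ _) (hsf ((hφ ⟨e, he'⟩).trans he))⟩
  · refine (Submodule.Quotient.mk_eq_zero (LinearMap.range (tilde.toOpen S.X₁ UU).hom)).trans
      (Iff.trans ?_ (LC.mem_ker_torsionδ (R := CommRingCat.of A) I hS (γ e)).symm)
    constructor
    · rintro ⟨q, hq⟩
      refine ⟨e.1 - S.f q, (toOpen_eq_zero_iff I S.X₂ _).1 ?_, ?_⟩
      · rw [map_sub, ← hφ e, ← hq]
        exact sub_eq_zero.2 (secMap_toOpen I S.f q)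
      · show S.g (e.1 - S.f q) = S.g e.1
        rw [map_sub, ShortComplex.moduleCat_zero_apply, sub_zero]
    · rintro ⟨e0, he0, hc⟩
      obtain ⟨q, hq⟩ := (ShortComplex.moduleCat_exact_iff S).1 hS.exact (e.1 - e0)
        (by rw [map_sub]; exact sub_eq_zero.2 hc.symm)
      refine ⟨q, hsf ?_⟩
      rw [hφ e]
      refine (secMap_toOpen I S.f q).trans ?_
      rw [hq, map_sub, (toOpen_eq_zero_iff I S.X₂ e0).2 he0, sub_zero]

theorem exists_mono_injective' (M : ModuleCat.{u} (CommRingCat.of A)) :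
    ∃ (S : ShortComplex (ModuleCat.{u} (CommRingCat.of A))), S.ShortExact ∧ S.X₁ = M ∧ Injective S.X₂ :=
  LC.exists_mono_injective M

include hS in
theorem nonempty_coker_g_equiv (hE : Injective S.X₂) :
    Nonempty (Coh.HH (↑UU : Scheme.{u}) ((puncFun I).obj S.X₁) 1 ≃ₗ[A] cokerSec I S.X₃) := by
  haveI : Module.Injective (CommRingCat.of A) S.X₂ := Module.injective_module_of_injective_object _ _
  let hT := puncFun_shortExact I S hS
  have h1 := subsingleton_HH_of_injective I S.X₂ 0
  have hsurj : Function.Surjective (Cohom.hhDelta A hT 0) := fun x =>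
    (Cohom.exact₁ (A := A) hT 0 x).1 (@Subsingleton.elim _ h1 _ _)
  refine nonempty_linearEquiv_of_ker_eq (Cohom.hhDelta A hT 0)
    (((LinearMap.range (tilde.toOpen S.X₃ UU).hom).mkQ.restrictScalars A).comp (H0Sec I S.X₃).toLinearMap)
    hsurj ((Submodule.mkQ_surjective _).comp (H0Sec I S.X₃).surjective) fun x => ?_
  · refine Iff.trans ?_ (Submodule.Quotient.mk_eq_zero _).symm
    refine (Cohom.exact₃ (A := A) hT 0 x).trans ⟨?_, ?_⟩
    · rintro ⟨y, rfl⟩
      obtain ⟨m, hm⟩ := toOpen_surjective_of_injective I S.X₂ (H0Sec I S.X₂ y)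
      exact ⟨S.g m, (secMap_toOpen I S.g m).symm.trans
        ((congrArg (secMap I S.g) hm).trans (H0Sec_map I S.g y).symm)⟩
    · rintro ⟨q, hq⟩
      obtain ⟨m, rfl⟩ := (ModuleCat.epi_iff_surjective S.g).1 hS.epi_g q
      refine ⟨(H0Sec I S.X₂).symm (tilde.toOpen S.X₂ UU m), (H0Sec I S.X₃).injective ?_⟩
      refine ((H0Sec_map I S.g _).trans ?_).trans hq
      rw [LinearEquiv.apply_symm_apply]
      exact secMap_toOpen I S.g m

/-- `H^(p+1)(U, M~) ≅ H^(p+2)_I(M)`. -/
theorem nonempty_HH_equiv (p : ℕ) : ∀ M : ModuleCat.{u} (CommRingCat.of A),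
    Nonempty (Coh.HH (↑UU : Scheme.{u}) ((puncFun I).obj M) (p + 1) ≃ₗ[A]
      (localCohomology (R := CommRingCat.of A) I (p + 2)).obj M) := by
  induction p with
  | zero =>
    intro M
    obtain ⟨S, hS, rfl, hE⟩ := exists_mono_injective' M
    obtain ⟨T, hT, hT₁, hE'⟩ := exists_mono_injective' S.X₃
    obtain ⟨e₁⟩ := nonempty_coker_g_equiv I hS hE
    obtain ⟨e₂⟩ := nonempty_coker_equiv I hT hE'
    rw [hT₁] at e₂
    exact ⟨e₁.trans (e₂.trans (LC.shiftEquiv (R := CommRingCat.of A) I hS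
      (fun i => LC.subsingleton_of_injective (R := CommRingCat.of A) I S.X₂ i) 0))⟩
  | succ p ih =>
    intro M
    obtain ⟨S, hS, rfl, hE⟩ := exists_mono_injective' M
    haveI : Module.Injective (CommRingCat.of A) S.X₂ := Module.injective_module_of_injective_object _ _
    let hT := puncFun_shortExact I S hS
    obtain ⟨e⟩ := ih S.X₃
    refine ⟨(LinearEquiv.ofBijective (Cohom.hhDelta A hT (p + 1)) ⟨?_, fun x => ?_⟩).symm.trans
      (e.trans (LC.shiftEquiv (R := CommRingCat.of A) I hS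
        (fun i => LC.subsingleton_of_injective (R := CommRingCat.of A) I S.X₂ i) (p + 1)))⟩
    · rw [injective_iff_map_eq_zero]
      intro x hx
      obtain ⟨y, rfl⟩ := (Cohom.exact₃ (A := A) hT (p + 1) x).1 hx
      exact (congrArg _ (@Subsingleton.elim _ (subsingleton_HH_of_injective I S.X₂ p) y 0)).trans (map_zero _)
    · exact (Cohom.exact₁ (A := A) hT (p + 1) x).1
        (@Subsingleton.elim _ (subsingleton_HH_of_injective I S.X₂ (p + 1)) _ _)

end GrothLib.Punctured
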