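import Groth.Agent.Lib.LocZ25.Affine
import Groth.Agent.Lib.Cohom.LinearLES
import Groth.Agent.Lib.ProjCoh.Generic
import Groth.Agent.Lib.SheafCoh.Top
import Groth.Prelude.Def_Wider

/-!
# Cohomology of quasi-coherent sheaves on a punctured spectrum
-/

set_option autoImplicit false
universe u

open CategoryTheory CategoryTheory.Limits Opposite AlgebraicGeometry TopologicalSpace

namespace GrothLib.Punctured

theorem additive_tildeFunctor (R : CommRingCat.{u}) : (tilde.functor R).Additive := inferInstance

variable {A : Type u} [CommRing A] (I : Ideal A)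

local notation "UU" => LocCoh.puncturedOpen A I

attribute [local instance] preservesBinaryBiproducts_of_preservesBinaryCoproducts in
instance additive_restrictFunctor {X Y : Scheme.{u}} (f : X ⟶ Y) [IsOpenImmersion f] :
    (Scheme.Modules.restrictFunctor f).Additive :=
  Functor.additive_of_preservesBinaryBiproducts _

/-- The sheaf on the punctured spectrum attached to a module. -/
noncomputable abbrev puncFun : ModuleCat.{u} (CommRingCat.of A) ⥤ (↑UU : Scheme.{u}).Modules :=
  tilde.functor (CommRingCat.of A) ⋙ Scheme.Modules.restrictFunctor (UU).ι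

instance additive_puncFun : (puncFun I).Additive :=
  haveI : (tilde.functor (CommRingCat.of A)).Additive := additive_tildeFunctor (CommRingCat.of A)
  inferInstance

theorem puncFun_shortExact (S : ShortComplex (ModuleCat.{u} (CommRingCat.of A))) (hS : S.ShortExact) :
    (S.map (puncFun I)).ShortExact :=
  (QCoh.tildeFunctor_map_shortExact S hS).map_of_exact (Scheme.Modules.restrictFunctor (UU).ι)

/-- The sections over the punctured spectrum, as an `A`-module. -/
noncomputable abbrev sec (M : ModuleCat.{u} (CommRingCat.of A)) : ModuleCat.{u} (CommRingCat.of A) :=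
  (modulesSpecToSheaf.obj (tilde M)).presheaf.obj (op UU)

/-- The map on sections induced by a map of modules. -/
noncomputable def secMap {M N : ModuleCat.{u} (CommRingCat.of A)} (g : M ⟶ N) : sec I M ⟶ sec I N :=
  (modulesSpecToSheaf.map (tilde.map g)).hom.app (op UU)

theorem secMap_toOpen {M N : ModuleCat.{u} (CommRingCat.of A)} (g : M ⟶ N) (m : M) :
    secMap I g (tilde.toOpen M UU m) = tilde.toOpen N UU (g m) :=
  ConcreteCategory.congr_hom (tilde.toOpen_map_app g UU) m

theorem le_image_top : UU ≤ (UU).ι ''ᵁ ⊤ := fun x hx => ⟨⟨x, hx⟩, trivial, rfl⟩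

theorem image_top_le : (UU).ι ''ᵁ ⊤ ≤ UU := by
  rintro _ ⟨y, -, rfl⟩
  exact y.2

variable (M : ModuleCat.{u} (CommRingCat.of A))

/-- Global sections of the restriction are the sections over the open. -/
noncomputable def topEquiv : Γ((puncFun I).obj M, ⊤) ≃+ sec I M where
  toFun x := (tilde M).presheaf.map (homOfLE (le_image_top I)).op x
  invFun y := (tilde M).presheaf.map (homOfLE (image_top_le I)).op y
  left_inv x := (ConcreteCategory.congr_hom ((tilde M).presheaf.map_comp (homOfLE (le_image_top I)).op
    (homOfLE (image_top_le I)).op) x).symm.trans (ConcreteCategory.congr_hom ((tilde M).presheaf.map_id _) x)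
  right_inv x := (ConcreteCategory.congr_hom ((tilde M).presheaf.map_comp (homOfLE (image_top_le I)).op
    (homOfLE (le_image_top I)).op) x).symm.trans (ConcreteCategory.congr_hom ((tilde M).presheaf.map_id _) x)
  map_add' x y := map_add _ x y

/-- `H^0` is the module of sections. -/
noncomputable def H0Sec : Coh.HH (↑UU : Scheme.{u}) ((puncFun I).obj M) 0 ≃ₗ[A] sec I M :=
  { (ProjCoh.H0top ((puncFun I).obj M)).trans (topEquiv I M) with
    map_smul' := fun a x => by
      let s := (Scheme.ΓSpecIso (CommRingCat.of A)).inv.hom a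
      let y := ProjCoh.H0top ((puncFun I).obj M) x
      show topEquiv I M (ProjCoh.H0top ((puncFun I).obj M) (a • x)) = a • topEquiv I M y
      rw [ProjCoh.H0top_smul]
      refine ((tilde M).map_smul (homOfLE (le_image_top I)) _ _).trans ?_
      have hh : ((UU).ι.appIso ⊤).inv = 𝟙 _ := by rw [Scheme.Opens.ι_appIso]; rfl
      refine (congrArg (fun φ : Γ((↑UU : Scheme.{u}), ⊤) ⟶ Γ(Spec (CommRingCat.of A), (UU).ι ''ᵁ ⊤) =>
        ((Spec (CommRingCat.of A)).presheaf.map (homOfLE (le_image_top I)).op).hom
          (φ.hom (Coh.toGlobal ((↑UU : Scheme.{u}) ↘ Spec (CommRingCat.of A)) a)) •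
            (show Γ(tilde M, UU) from topEquiv I M y)) hh).trans ?_
      refine congrArg (fun c : Γ(Spec (CommRingCat.of A), UU) => c • (show Γ(tilde M, UU) from topEquiv I M y)) ?_
      exact (ConcreteCategory.congr_hom ((Spec (CommRingCat.of A)).presheaf.map_comp _ _) s).symm }

theorem H0Sec_map {M N : ModuleCat.{u} (CommRingCat.of A)} (g : M ⟶ N)
    (x : Coh.HH (↑UU : Scheme.{u}) ((puncFun I).obj M) 0) :
    H0Sec I N (Cohom.hhMap A ((puncFun I).map g) 0 x) = secMap I g (H0Sec I M x) := by
  show topEquiv I N (ProjCoh.H0top _ (Sheaf.H.map _ 0 x)) = secMap I g (topEquiv I M _)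
  rw [ProjCoh.H0top_map]
  exact (ConcreteCategory.congr_hom ((tilde.map g).mapPresheaf.naturality (homOfLE (le_image_top I)).op) _).symm

variable [IsNoetherianRing A]

theorem toOpen_surjective_of_injective (E : ModuleCat.{u} (CommRingCat.of A))
    [Module.Injective (CommRingCat.of A) E] : Function.Surjective (tilde.toOpen E UU) :=
  haveI : IsNoetherianRing (CommRingCat.of A) := inferInstanceAs (IsNoetherianRing A)
  fun s => LocZ25.tilde_res_surjective E UU s

theorem isFlasque_puncFun (E : ModuleCat.{u} (CommRingCat.of A)) [Module.Injective (CommRingCat.of A) E] :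
    TopCat.Sheaf.IsFlasque (Coh.toAb ((puncFun I).obj E)) := by
  haveI : IsNoetherianRing (CommRingCat.of A) := inferInstanceAs (IsNoetherianRing A)
  have h := LocZ25.isFlasque_tilde E
  refine ⟨fun {V W} i => ?_⟩
  exact h.epi ((UU).ι.opensFunctor.map i.unop).op

theorem subsingleton_HH_of_injective (E : ModuleCat.{u} (CommRingCat.of A))
    [Module.Injective (CommRingCat.of A) E] (n : ℕ) :
    Subsingleton (Coh.HH (↑UU : Scheme.{u}) ((puncFun I).obj E) (n + 1)) :=
  haveI := isFlasque_puncFun I E
  SheafCoh.flasque_H_subsingleton _ n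

end GrothLib.Punctured
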