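import Groth.Agent.Lib.HomSh.QCoh
import Groth.Agent.Lib.Ref1.Frame
import Groth.Agent.Lib.FinCov.FrameFree
import Groth.Agent.Lib.QCoh.Qcqs
import Groth.Agent.Lib.Euler.Coh
import Groth.Agent.Lib.Cohom.LinearLES

/-! Extending frames and dual frames from `X_g` (helper3). -/

set_option autoImplicit false

universe u

set_option linter.style.haveILetI false

open CategoryTheory CategoryTheory.Limits Opposite AlgebraicGeometry TopologicalSpace

namespace GrothLib.Punctured

variable {X : Scheme.{u}} {F G : X.Modules}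

theorem genOn_of_isFrame {U : X.Opens} {n : ℕ} {e : Fin n → Γ(F, U)} (he : FinCov.IsFrame F U e) :
    HomSh.GenOn F U (fun i : ULift.{u} (Fin n) => e i.down) := fun y hy => by
  refine eq_top_iff.2 fun v _ => ?_
  obtain ⟨c, rfl⟩ := (Ref1.stalk_of_isFrame he y hy).2 v
  change ∑ i, c i • F.presheaf.germ U y hy (e i) ∈ _
  exact Submodule.sum_mem _ fun i _ => Submodule.smul_mem _ _ (Submodule.subset_span ⟨⟨i⟩, rfl⟩)

theorem relOn_of_isFrame {U : X.Opens} {n : ℕ} {e : Fin n → Γ(F, U)} (he : FinCov.IsFrame F U e) :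
    HomSh.RelOn F (fun i : ULift.{u} (Fin n) => e i.down)
      (fun (k : PEmpty.{u + 1}) (_ : ULift.{u} (Fin n)) => (k.elim : Γ(X, U))) := fun y hy => by
  refine ⟨fun k => k.elim, fun c hc => ?_⟩
  have h0 : Ref1.stalkComb e y hy (fun i => c ⟨i⟩) = 0 := by
    refine Eq.trans ?_ hc
    change ∑ i, c ⟨i⟩ • F.presheaf.germ U y hy (e i) = ∑ i : ULift.{u} (Fin n), c i • F.presheaf.germ U y hy (e i.down)
    exact Fintype.sum_equiv Equiv.ulift.symm _ _ fun i => rfl
  have := (Ref1.stalk_of_isFrame he y hy).1 (h0.trans (map_zero _).symm)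
  rw [show c = 0 from funext fun i => congrFun this i.down]
  exact Submodule.zero_mem _

/-- A section of the sheaf Hom with given values on a frame. -/
theorem exists_values {U V : X.Opens} {n : ℕ} {e : Fin n → Γ(F, U)} (he : FinCov.IsFrame F U e) (hVU : V ≤ U)
    (v : ULift.{u} (Fin n) → Γ(G, V)) :
    ∃ t : Γ(RefHull.homSh F G, V),
      HomSh.applyGensₗ (G := G) (m := fun i : ULift.{u} (Fin n) => e i.down) hVU t = v := by
  obtain ⟨t, ht⟩ := HomSh.exists_section_of_relOn F G (genOn_of_isFrame he) (relOn_of_isFrame he) hVU (le_refl V)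
    v fun k => k.elim
  refine ⟨t, funext fun i => TopCat.Presheaf.section_ext (C := Ab.{u}) (X := X.carrier)
    ⟨G.presheaf, G.isSheaf⟩ V _ _ fun y hy => ?_⟩
  exact (HomSh.germ_applyGens (m := fun i : ULift.{u} (Fin n) => e i.down) hVU t i y hy).trans (ht y hy i)

theorem applyGens_map {U V W : X.Opens} {ι : Type u} [Fintype ι] {m : ι → Γ(F, U)} (hVU : V ≤ U) (hWV : W ≤ V)
    (t : Γ(RefHull.homSh F G, V)) (i : ι) :
    G.presheaf.map (homOfLE hWV).op (HomSh.applyGens (m := m) hVU t i) =
      HomSh.applyGens (m := m) (hWV.trans hVU) ((RefHull.homSh F G).presheaf.map (homOfLE hWV).op t) i :=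
  TopCat.Presheaf.section_ext (C := Ab.{u}) (X := X.carrier) ⟨G.presheaf, G.isSheaf⟩ W _ _ fun y hy => by
    change G.presheaf.germ W y hy _ = G.presheaf.germ W y hy _
    rw [TopCat.Presheaf.germ_res_apply, HomSh.germ_applyGens, HomSh.germ_applyGens]
    rfl

/-- `Hom(F, O)` of a finite locally free module is quasi-coherent. -/
theorem isQuasicoherent_dual (hF : FlatMod.IsFinLocFree F) :
    (RefHull.homSh F (Coh.structureModule X)).IsQuasicoherent := by
  classical
  choose U n e hxU he using fun x : X => FinCov.exists_frame_nhd hF x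
  choose W hW hxW hWU using fun x : X => exists_isAffineOpen_mem_and_subset (x := x) (U := U x) (hxU x)
  haveI : (Coh.structureModule X).IsQuasicoherent :=
    inferInstanceAs (Coh.structureModule X).IsQuasicoherent
  refine QCoh.isQuasicoherent_of_smulLift_of_smulSep _ W
    (eq_top_iff.mpr fun x _ => Opens.mem_iSup.mpr ⟨x, hxW x⟩) hW fun x g => ?_
  have hle : X.basicOpen g ≤ U x := (X.basicOpen_le g).trans (hWU x)
  let m : ULift.{u} (Fin (n x)) → Γ(F, U x) := fun i => e x i.down
  have inj : ∀ {V : X.Opens} (hV : V ≤ U x), Function.Injective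
      (HomSh.applyGensₗ (G := Coh.structureModule X) (m := m) hV) :=
    fun hV => HomSh.applyGensₗ_injective hV (genOn_of_isFrame (he x))
  refine ⟨fun s => ?_, fun t ht => ?_⟩
  · choose k t ht using fun i =>
      (QCoh.smulLift_and_smulSep_of_isAffineOpen (hW x) (Coh.structureModule X) g).1
        (HomSh.applyGens (m := m) hle s i)
    let N := ∑ i, k i
    obtain ⟨θ, hθ⟩ := exists_values (G := Coh.structureModule X) (he x) (hWU x) fun i => g ^ (N - k i) • t i
    refine ⟨N, θ, inj hle (funext fun i => ?_)⟩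
    rw [map_smul, Pi.smul_apply]
    change HomSh.applyGens (m := m) hle _ i = _
    rw [← applyGens_map (hWU x) (X.basicOpen_le g)]
    change (Coh.structureModule X).presheaf.map _
      ((HomSh.applyGensₗ (G := Coh.structureModule X) (m := m) (hWU x)) θ i) = _
    rw [hθ, Scheme.Modules.map_smul, ht, map_pow, smul_smul, ← pow_add,
      Nat.sub_add_cancel (Finset.single_le_sum (fun j _ => Nat.zero_le (k j)) (Finset.mem_univ i))]
    rfl
  · have hk : ∀ i, ∃ k : ℕ, g ^ k • HomSh.applyGens (m := m) (hWU x) t i = 0 := fun i => by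
      refine (QCoh.smulLift_and_smulSep_of_isAffineOpen (hW x) (Coh.structureModule X) g).2 _ ?_
      rw [applyGens_map (hWU x) (X.basicOpen_le g), ht]
      exact congrFun (map_zero (HomSh.applyGensₗ (G := Coh.structureModule X) (m := m) hle)) i
    choose k hk using hk
    refine ⟨∑ i, k i, inj (hWU x) (funext fun i => ?_)⟩
    rw [map_smul, map_zero, Pi.smul_apply, Pi.zero_apply]
    change g ^ _ • HomSh.applyGens (m := m) (hWU x) t i = 0
    rw [← Nat.sub_add_cancel (Finset.single_le_sum (fun j _ => Nat.zero_le (k j)) (Finset.mem_univ i)),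
      pow_add, mul_smul, hk, smul_zero]

/-- A global section of the sheaf Hom as a morphism. -/
theorem exists_hom_of_section (θ : Γ(RefHull.homSh F G, ⊤)) :
    ∃ φ : F ⟶ G, ∀ (V : X.Opens) (m : Γ(F, V)) (y : X) (hy : y ∈ V),
      G.presheaf.germ V y hy (φ.app V m) = θ.1 ⟨y, trivial⟩ (F.presheaf.germ V y hy m) := by
  have key : ∀ (V : X.Opens) (m : Γ(F, V)), ∃ n : Γ(G, V), ∀ (y : X) (hy : y ∈ V),
      G.presheaf.germ V y hy n = θ.1 ⟨y, trivial⟩ (F.presheaf.germ V y hy m) := fun V m => by
    obtain ⟨n, hn, -⟩ := HomSh.existsUnique_apply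
      ((RefHull.homSh F G).presheaf.map (homOfLE (le_top : V ≤ ⊤)).op θ) m
    exact ⟨n, fun y hy => (hn y hy).symm⟩
  choose a ha using key
  have ext : ∀ {V : X.Opens} (u v : Γ(G, V)),
      (∀ (y : X) (hy : y ∈ V), G.presheaf.germ V y hy u = G.presheaf.germ V y hy v) → u = v :=
    fun {V} u v h => TopCat.Presheaf.section_ext (C := Ab.{u}) (X := X.carrier)
      ⟨G.presheaf, G.isSheaf⟩ V u v h
  let L : ∀ V : X.Opens, Γ(F, V) →ₗ[Γ(X, V)] Γ(G, V) := fun V =>
    { toFun := a V
      map_add' := fun m m' => ext _ _ fun y hy => by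
        rw [map_add (G.presheaf.germ V y hy).hom, ha, ha, ha, map_add (F.presheaf.germ V y hy).hom, map_add]
      map_smul' := fun c m => ext _ _ fun y hy => by
        rw [RingHom.id_apply, ha, Mero.germ_smul, Mero.germ_smul, ha, map_smul] }
  let φ : ∀ V : X.Opensᵒᵖ, F.val.obj V ⟶ G.val.obj V := fun V =>
    ModuleCat.ofHom (X := F.val.obj V) (Y := G.val.obj V) (L V.unop)
  refine ⟨⟨{ app := φ
             naturality := fun {V W} i => ModuleCat.hom_ext (LinearMap.ext fun m => ext (V := W.unop) _ _ fun y hy => ?_) }⟩,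
    fun V m y hy => ha V m y hy⟩
  erw [ha, TopCat.Presheaf.germ_res_apply F.presheaf i.unop, TopCat.Presheaf.germ_res_apply G.presheaf i.unop]
  exact (ha _ m y (i.unop.le hy)).symm

end GrothLib.Punctured
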