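import Groth.Agent.Lib.Punctured.DualFrame

/-! Powers of `g` factor a finite locally free module through `O` when it is free on `X_g` (helper3). -/

set_option autoImplicit false
set_option linter.style.haveILetI false

universe u

open CategoryTheory CategoryTheory.Limits Opposite AlgebraicGeometry TopologicalSpace

namespace GrothLib.Punctured

variable {X : Scheme.{u}} [CompactSpace X] [QuasiSeparatedSpace X] {F : X.Modules}

omit [QuasiSeparatedSpace X] in
theorem isCompact_top : IsCompact ((⊤ : X.Opens) : Set X) := by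
  rw [Opens.coe_top]
  exact isCompact_univ

omit [CompactSpace X] in
theorem isQuasiSeparated_top : IsQuasiSeparated ((⊤ : X.Opens) : Set X) := by
  rw [Opens.coe_top]
  exact isQuasiSeparated_univ

omit [CompactSpace X] [QuasiSeparatedSpace X] in
theorem germ_map {M : X.Modules} {V W : X.Opens} (h : W ≤ V) (y : X) (hy : y ∈ W) (m : Γ(M, V)) :
    M.presheaf.germ W y hy (M.presheaf.map (homOfLE h).op m) = M.presheaf.germ V y (h hy) m :=
  TopCat.Presheaf.germ_res_apply M.presheaf (homOfLE h) y hy m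

/-- Uniform lifts of finitely many sections. -/
theorem exists_lifts (M : X.Modules) [M.IsQuasicoherent] (h : Γ(X, ⊤)) {ι : Type*} [Fintype ι]
    (s : ι → Γ(M, X.basicOpen h)) :
    ∃ k, ∀ l ≥ k, ∃ t : ι → Γ(M, ⊤), ∀ i, M.presheaf.map (homOfLE (X.basicOpen_le h)).op (t i) =
      (X.presheaf.map (homOfLE (X.basicOpen_le h)).op h) ^ l • s i := by
  choose k t ht using fun i => QCoh.smulLift_of_isCompact M (isCompact_top (X := X)) isQuasiSeparated_top h (s i)
  refine ⟨∑ i, k i, fun l hl => ⟨fun i => h ^ (l - k i) • t i, fun i => ?_⟩⟩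
  rw [Scheme.Modules.map_smul, ht, map_pow, smul_smul, ← pow_add,
    Nat.sub_add_cancel ((Finset.single_le_sum (fun j _ => Nat.zero_le (k j)) (Finset.mem_univ i)).trans hl)]

omit [QuasiSeparatedSpace X] in
/-- An endomorphism vanishing on `X_h` is killed by a power of `h`. -/
theorem exists_pow_smul_eq_zero (hF : FlatMod.IsFinLocFree F) (h : Γ(X, ⊤))
    (appψ : ∀ V : X.Opens, Γ(F, V) →ₗ[Γ(X, V)] Γ(F, V))
    (hnat : ∀ {V W : X.Opens} (hWV : W ≤ V) (m : Γ(F, V)),
      F.presheaf.map (homOfLE hWV).op (appψ V m) = appψ W (F.presheaf.map (homOfLE hWV).op m))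
    (hz : ∀ (V : X.Opens), V ≤ X.basicOpen h → ∀ m : Γ(F, V), appψ V m = 0) :
    ∃ l : ℕ, ∀ (V : X.Opens) (m : Γ(F, V)),
      (X.presheaf.map (homOfLE (le_top : V ≤ ⊤)).op h) ^ l • appψ V m = 0 := by
  classical
  haveI := Euler.isQuasicoherent_of_isFinLocFree hF
  choose U n e hxU he using fun x : X => FinCov.exists_frame_nhd hF x
  choose W hW hxW hWU₀ using fun x : X => exists_isAffineOpen_mem_and_subset (x := x) (U := U x) (hxU x)
  have hWU : ∀ x, W x ≤ U x := hWU₀
  obtain ⟨T, hT⟩ := isCompact_univ.elim_finite_subcover (fun x : X => (W x : Set X))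
    (fun x => (W x).isOpen) fun x _ => Set.mem_iUnion.2 ⟨x, hxW x⟩
  have hk : ∀ (x : X) (i : Fin (n x)), ∃ l : ℕ, (X.presheaf.map (homOfLE (le_top : W x ≤ ⊤)).op h) ^ l •
      appψ (W x) (F.presheaf.map (homOfLE (hWU x)).op (e x i)) = 0 := fun x i => by
    refine (QCoh.smulLift_and_smulSep_of_isAffineOpen (hW x) F _).2 _ ?_
    rw [hnat (X.basicOpen_le _)]
    refine hz _ ?_ _
    rw [X.basicOpen_res]
    exact inf_le_right
  choose l hl using hk
  refine ⟨∑ x ∈ T, ∑ i, l x i, fun V m => GrothLib.QCoh.section_eq_zero_of_germ F _ fun y hy => ?_⟩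
  obtain ⟨x, hxT, hyx⟩ := Set.mem_iUnion₂.1 (hT (Set.mem_univ y))
  have hy' : y ∈ V ⊓ W x := ⟨hy, hyx⟩
  rw [← germ_map (inf_le_left : V ⊓ W x ≤ V) y hy']
  suffices F.presheaf.map (homOfLE (inf_le_left : V ⊓ W x ≤ V)).op
      ((X.presheaf.map (homOfLE (le_top : V ≤ ⊤)).op h) ^ (∑ x ∈ T, ∑ i, l x i) • appψ V m) = 0 by
    exact (congrArg (F.presheaf.germ (V ⊓ W x) y hy') this).trans (map_zero _)
  rw [Scheme.Modules.map_smul, map_pow, Cohom.ringMap_map_apply, hnat]
  obtain ⟨c, hc⟩ := (he x (V ⊓ W x) (inf_le_right.trans (hWU x))).2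
    (F.presheaf.map (homOfLE (inf_le_left : V ⊓ W x ≤ V)).op m)
  dsimp only at hc
  rw [← hc, map_sum, Finset.smul_sum]
  refine Finset.sum_eq_zero fun i _ => ?_
  have hle : l x i ≤ ∑ x ∈ T, ∑ i, l x i :=
    (Finset.single_le_sum (fun j _ => Nat.zero_le (l x j)) (Finset.mem_univ i)).trans
      (Finset.single_le_sum (f := fun x => ∑ i, l x i) (fun j _ => Nat.zero_le _) hxT)
  obtain ⟨d, hd⟩ := Nat.exists_eq_add_of_le hle
  have hi := congrArg (F.presheaf.map (homOfLE (inf_le_right : V ⊓ W x ≤ W x)).op) (hl x i)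
  rw [map_zero, Scheme.Modules.map_smul, map_pow, Cohom.ringMap_map_apply, hnat, Cohom.map_map_apply] at hi
  rw [map_smul, hd, pow_add, mul_comm, mul_smul, smul_comm _ (c i), hi, smul_zero, smul_zero]

/-- A power of `h` acts on `F` as a sum of composites through `O`. -/
theorem exists_factor (hF : FlatMod.IsFinLocFree F) (h : Γ(X, ⊤)) {n : ℕ}
    (e : Fin n → Γ(F, X.basicOpen h)) (he : FinCov.IsFrame F (X.basicOpen h) e) :
    ∃ (N : ℕ) (v : Fin n → (Coh.structureModule X ⟶ F)) (w : Fin n → (F ⟶ Coh.structureModule X)),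
      Coh.smulAb F (h ^ N : Γ(X, ⊤)) = ∑ i, (SheafOfModules.toSheaf X.ringCatSheaf).map (w i ≫ v i) := by
  classical
  haveI := Euler.isQuasicoherent_of_isFinLocFree hF
  haveI := isQuasicoherent_dual hF
  let m : ULift.{u} (Fin n) → Γ(F, X.basicOpen h) := fun i => e i.down
  choose θD hθD using fun j : Fin n => exists_values (G := Coh.structureModule X) he (le_refl (X.basicOpen h))
    fun i => if i.down = j then FinCov.one X (X.basicOpen h) else 0
  obtain ⟨k₁, hk₁⟩ := exists_lifts F h e
  obtain ⟨k₂, hk₂⟩ := exists_lifts (RefHull.homSh F (Coh.structureModule X)) h θD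
  let k := max k₁ k₂
  obtain ⟨s, hs⟩ := hk₁ k (le_max_left _ _)
  obtain ⟨θ, hθ⟩ := hk₂ k (le_max_right _ _)
  choose w hw using fun j => exists_hom_of_section (θ j)
  let v : Fin n → (Coh.structureModule X ⟶ F) := fun j => FinCov.homOfSection (s j)
  let ψ : ∀ V : X.Opens, Γ(F, V) →ₗ[Γ(X, V)] Γ(F, V) := fun V =>
    { toFun := fun x => (∑ i, (v i).app V ((w i).app V x)) -
        X.presheaf.map (homOfLE (le_top : V ≤ ⊤)).op (h ^ (k + k)) • x
      map_add' := fun x y => by simp only [map_add, Finset.sum_add_distrib, smul_add]; abel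
      map_smul' := fun c x => by
        rw [RingHom.id_apply, smul_sub, Finset.smul_sum, smul_comm c]
        refine congrArg (· - _) (Finset.sum_congr rfl fun i _ => ?_)
        rw [Scheme.Modules.Hom.app_smul, Scheme.Modules.Hom.app_smul] }
  have hn : ∀ {M N : X.Modules} (φ : M ⟶ N) {V W : X.Opens} (hWV : W ≤ V) (x : Γ(M, V)),
      N.presheaf.map (homOfLE hWV).op (φ.app V x) = φ.app W (M.presheaf.map (homOfLE hWV).op x) :=
    fun φ V W hWV x => (ConcreteCategory.congr_hom (φ.mapPresheaf.naturality (homOfLE hWV).op) x).symm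
  obtain ⟨l, hl⟩ := exists_pow_smul_eq_zero hF h ψ (fun {V W} hWV x => by
      simp only [ψ, LinearMap.coe_mk, AddHom.coe_mk, map_sub, map_sum, hn, Scheme.Modules.map_smul,
        Cohom.ringMap_map_apply])
    fun V hV x => by
      refine sub_eq_zero.2 ?_
      obtain ⟨c, rfl⟩ := (he V hV).2 x
      dsimp only
      let g := X.presheaf.map (homOfLE (le_top : V ≤ ⊤)).op h
      have hwe : ∀ i j, (w j).app V (F.presheaf.map (homOfLE hV).op (e i)) =
          g ^ k • (if i = j then FinCov.one X V else 0) := fun i j => by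
        refine TopCat.Presheaf.section_ext (C := Ab.{u}) (X := X.carrier)
          ⟨(Coh.structureModule X).presheaf, (Coh.structureModule X).isSheaf⟩ V _ _ fun y hy => ?_
        change (Coh.structureModule X).presheaf.germ V y hy _ = (Coh.structureModule X).presheaf.germ V y hy _
        rw [hw, germ_map]
        have h1 : (θ j).1 ⟨y, trivial⟩ =
            X.presheaf.germ (X.basicOpen h) y (hV hy)
              ((X.presheaf.map (homOfLE (X.basicOpen_le h)).op h) ^ k) • (θD j).1 ⟨y, hV hy⟩ :=
          congrFun (congrArg Subtype.val (hθ j)) ⟨y, hV hy⟩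
        have h2 := congrArg ((Coh.structureModule X).presheaf.germ (X.basicOpen h) y (hV hy))
          (congrFun (hθD j) ⟨i⟩)
        have h2 : (θD j).1 ⟨y, hV hy⟩ (F.presheaf.germ (X.basicOpen h) y (hV hy) (e i)) =
            (Coh.structureModule X).presheaf.germ (X.basicOpen h) y (hV hy)
              (if i = j then FinCov.one X (X.basicOpen h) else 0) :=
          (HomSh.germ_applyGens (m := m) (le_refl _) (θD j) ⟨i⟩ y (hV hy)).symm.trans h2
        rw [h1, LinearMap.smul_apply]
        erw [h2]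
        rw [Mero.germ_smul, map_pow, map_pow]
        simp only [g, TopCat.Presheaf.germ_res_apply]
        congr 1
        by_cases hij : i = j
        · simp only [hij, if_true]
          have e1 : (Coh.structureModule X).presheaf.map (homOfLE hV).op (FinCov.one X (X.basicOpen h)) =
              FinCov.one X V := map_one ((X.presheaf.map (homOfLE hV).op).hom)
          rw [← e1, germ_map]
        · simp only [hij, if_false, map_zero]
      have hv : ∀ i, (v i).app V (FinCov.one X V) = g ^ k • F.presheaf.map (homOfLE hV).op (e i) := fun i => by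
        rw [FinCov.homOfSection_one, ← Cohom.map_map_apply F (homOfLE (X.basicOpen_le h)) (homOfLE hV),
          hs, Scheme.Modules.map_smul, map_pow, Cohom.ringMap_map_apply]
      rw [map_pow, Finset.smul_sum]
      simp only [map_sum, Scheme.Modules.Hom.app_smul, hwe]
      rw [Finset.sum_comm]
      refine Finset.sum_congr rfl fun i _ => ?_
      rw [Finset.sum_eq_single i (fun j _ hj => by rw [if_neg (Ne.symm hj), map_zero, smul_zero, smul_zero])
        (fun h' => absurd (Finset.mem_univ i) h'), if_pos rfl, hv, pow_add, mul_smul,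
        smul_comm (c i), smul_comm (c i)]
  choose w' hw' using fun j => exists_hom_of_section ((h ^ l : Γ(X, ⊤)) • θ j)
  have hww : ∀ (j : Fin n) (V : X.Opens) (x : Γ(F, V)),
      (w' j).app V x = X.presheaf.map (homOfLE (le_top : V ≤ ⊤)).op (h ^ l) • (w j).app V x := fun j V x => by
    refine TopCat.Presheaf.section_ext (C := Ab.{u}) (X := X.carrier)
      ⟨(Coh.structureModule X).presheaf, (Coh.structureModule X).isSheaf⟩ V _ _ fun y hy => ?_
    change (Coh.structureModule X).presheaf.germ V y hy _ = (Coh.structureModule X).presheaf.germ V y hy _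
    rw [hw', Mero.germ_smul, hw, TopCat.Presheaf.germ_res_apply]
    rfl
  have hsum : ∀ {ι : Type} (t : Finset ι) (f : ι → (Coh.toAb F ⟶ Coh.toAb F)) (V : X.Opens) (x : Γ(F, V)),
      (((∑ i ∈ t, f i).hom.app (op V)) x : Γ(F, V)) = ∑ i ∈ t, ((f i).hom.app (op V) x : Γ(F, V)) := by
    intro ι t f V x
    induction t using Finset.induction_on with
    | empty => rw [Finset.sum_empty, Finset.sum_empty]; rfl
    | insert a t ha ih => rw [Finset.sum_insert ha, Finset.sum_insert ha, ← ih]; rfl
  refine ⟨l + (k + k), v, w', ?_⟩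
  ext ⟨V⟩ x
  refine Eq.trans ?_ (hsum Finset.univ _ V x).symm
  let x' : Γ(F, V) := x
  change (X.presheaf.map (homOfLE (le_top : V ≤ ⊤)).op (h ^ (l + (k + k)))) • x' =
    ∑ i, (v i).app V ((w' i).app V x')
  simp only [hww, Scheme.Modules.Hom.app_smul, ← Finset.smul_sum]
  have := hl V x'
  simp only [ψ, LinearMap.coe_mk, AddHom.coe_mk, smul_sub, sub_eq_zero] at this
  simp only [map_pow] at this ⊢
  rw [this, pow_add, mul_smul]

end GrothLib.Punctured
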